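import Groth.Agent.S1688
import Groth.Agent.DepthLib.GeomRk
import Groth.Agent.CurvLib.RRBasic
import Groth.Agent.CurvLib.EulerTensor
import Groth.Agent.DevissLib.Induction
import Groth.Prelude.Def_Curv2

/-!
# Locally free modules on smooth curves: ranks and degrees
-/

set_option autoImplicit false
universe u

open CategoryTheory CategoryTheory.Limits AlgebraicGeometry TopologicalSpace Opposite
open scoped TensorProduct
open DevissLib CurvLib

noncomputable section

namespace CurveVBLib

variable {X : Scheme.{u}}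

/-- The stalk of a module which is free on an open. -/
theorem nonempty_stalk_pi_on {U : X.Opens} {n : ℕ} {E : X.Modules}
    (e : E.restrict U.ι ≅ FlatMod.freeMod (U : Scheme.{u}) n) {x : X} (hx : x ∈ U) :
    Nonempty ((St x).obj E ≃ₗ[X.presheaf.stalk x] (Fin n → X.presheaf.stalk x)) := by
  obtain ⟨p, rfl⟩ : ∃ p : (U : Scheme.{u}), U.ι p = x := ⟨⟨x, hx⟩, rfl⟩
  let R := X.presheaf.stalk (U.ι p)
  let R' := (U : Scheme.{u}).presheaf.stalk p
  letI : Algebra R R' := (U.ι.stalkMap p).hom.toAlgebra
  let φ : R ≃ₗ[R] R' := LinearEquiv.ofBijective (Algebra.linearMap R R')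
    (ConcreteCategory.bijective_of_isIso (U.ι.stalkMap p))
  let N := (St (U.ι p)).obj E
  let e1 := ((DerSch.stalkFunctor (U : Scheme.{u}) p).mapIso
      ((Scheme.Modules.restrictFunctorIsoPullback U.ι).app E).symm ≪≫
    (DerSch.stalkFunctor (U : Scheme.{u}) p).mapIso e ≪≫ KFlatLib.stalkFreeModIso _ p n).toLinearEquiv
  let e2 : (R' ⊗[R] N) ≃ₗ[R'] (Fin n → R') :=
    (((KFlatLib.stalkPullIso U.ι p).app E).toLinearEquiv.symm).trans e1
  exact ⟨(TensorProduct.lid R N).symm ≪≫ₗ TensorProduct.congr φ (LinearEquiv.refl R N) ≪≫ₗ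
    e2.restrictScalars R ≪≫ₗ LinearEquiv.piCongrRight fun _ => φ.symm⟩

theorem isFinLocFree_of_rank {n : ℕ} {E : X.Modules} (hE : FlatMod.IsFinLocFreeOfRank n E) :
    FlatMod.IsFinLocFree E := fun x =>
  let ⟨U, hU, e⟩ := hE x
  ⟨U, n, hU, e⟩

theorem regular_stalk {k : Type u} [Field k] [X.Over (Spec (CommRingCat.of k))]
    [Smooth (X ↘ Spec (CommRingCat.of k))] (x : X) : IsRegularLocalRing (X.presheaf.stalk x) :=
  (DepthLib.regular_of_smooth_and_conversely (X ↘ Spec (CommRingCat.of k)) x).1
    (by rw [Scheme.Hom.smoothLocus_eq_top]; trivial)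

variable [IsIntegral X]

theorem genRank_eq {n : ℕ} {E : X.Modules} (hE : FlatMod.IsFinLocFreeOfRank n E) : genRank E = n := by
  letI : Field (X.presheaf.stalk (genericPoint X)) := (inferInstance : Field X.functionField)
  obtain ⟨e⟩ := nonempty_stalk_pi_of_locFree hE (genericPoint X)
  exact e.finrank_eq.trans (Module.finrank_fin_fun _)

theorem rank_genRank {E : X.Modules} (hE : FlatMod.IsFinLocFree E) :
    FlatMod.IsFinLocFreeOfRank (genRank E) E := fun x => by
  obtain ⟨U, n, hU, ⟨e⟩⟩ := hE x
  have hη : genericPoint X ∈ U :=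
    ((genericPoint_spec X).mem_open_set_iff U.isOpen).mpr ⟨x, trivial, hU⟩
  letI : Field (X.presheaf.stalk (genericPoint X)) := (inferInstance : Field X.functionField)
  obtain ⟨e'⟩ := nonempty_stalk_pi_on e hη
  have : genRank E = n := e'.finrank_eq.trans (Module.finrank_fin_fun _)
  exact this ▸ ⟨U, hU, ⟨e⟩⟩

theorem genRank_of_isZero {F : X.Modules} (hF : IsZero F) : genRank F = 0 := by
  have hz := (St (genericPoint X)).map_isZero hF
  haveI : Subsingleton (F.presheaf.stalk (genericPoint X)) := ModuleCat.subsingleton_of_isZero hz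
  exact Module.finrank_zero_of_subsingleton

theorem genRank_mono [IsLocallyNoetherian X] {F E : X.Modules} (i : F ⟶ E) [Mono i] (hF : Coh.IsCoh F)
    (hE : Coh.IsCoh E) : genRank E = genRank F + genRank (cokernel i) := by
  let S : ShortComplex X.Modules := ShortComplex.mk i (cokernel.π i) (cokernel.condition i)
  have hS : S.ShortExact :=
    { exact := ShortComplex.exact_of_g_is_cokernel _ (cokernelIsCokernel i)
      mono_f := inferInstanceAs (Mono i)
      epi_g := inferInstanceAs (Epi (cokernel.π i)) }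
  exact genRank_add (S := S) hS hF hE (QCohLib.isCoh_cokernel i hF.1 hE)

/-- A submodule of a locally free module has torsion free stalks. -/
theorem torsionFree_of_mono {n : ℕ} {E F : X.Modules} (hE : FlatMod.IsFinLocFreeOfRank n E) (i : F ⟶ E)
    [Mono i] (x : X) : NoZeroSMulDivisors (X.presheaf.stalk x) ((St x).obj F) := by
  obtain ⟨e⟩ := nonempty_stalk_pi_of_locFree hE x
  have hi : Function.Injective ((St x).map i).hom :=
    (ModuleCat.mono_iff_injective _).mp inferInstance
  refine ⟨fun {r m} hrm => or_iff_not_imp_left.mpr fun hr => hi (e.injective (funext fun l => ?_))⟩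
  have h := congrFun (congrArg (fun z => e (((St x).map i).hom z)) hrm) l
  simp only [map_smul, map_zero, Pi.smul_apply, Pi.zero_apply, smul_eq_mul] at h
  simp only [map_zero, Pi.zero_apply]
  exact (mul_eq_zero.mp h).resolve_left hr

theorem locFree_of_mono (k : Type u) [Field k] [X.Over (Spec (CommRingCat.of k))]
    [Smooth (X ↘ Spec (CommRingCat.of k))] [IsLocallyNoetherian X] (hdim : topologicalKrullDim X ≤ 1) {n : ℕ} {E F : X.Modules}
    (hE : FlatMod.IsFinLocFreeOfRank n E) (i : F ⟶ E) [Mono i] (hF : Coh.IsCoh F) :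
    FlatMod.IsFinLocFreeOfRank (genRank F) F :=
  rank_genRank ((Groth.Agent.S1688.result X (fun x => regular_stalk (k := k) x) hdim F hF).mp
    (torsionFree_of_mono hE i))


/-- A submodule of a locally free module of generic rank zero is zero. -/
theorem isZero_of_genRank_zero {n : ℕ} {E F : X.Modules} (hE : FlatMod.IsFinLocFreeOfRank n E) (i : F ⟶ E)
    [Mono i] (h : FlatMod.IsFinLocFreeOfRank 0 F) : IsZero F := by
  refine DevissLib.isZero_of_support_empty (Set.eq_empty_iff_forall_notMem.mpr fun x hx => hx ?_)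
  obtain ⟨e⟩ := nonempty_stalk_pi_of_locFree h x
  exact e.toEquiv.subsingleton

variable {k : Type u} [Field k] [X.Over (Spec (CommRingCat.of k))]

theorem deg_eq (F : X.Modules) (r : ℕ) :
    Curv2.deg k X F r = Curv2.euler k X F - r * Curv2.euler k X (Coh.structureModule X) := rfl

/-- The degree with the generic rank. -/
def dg (k : Type u) [Field k] [X.Over (Spec (CommRingCat.of k))] (F : X.Modules) : ℤ :=
  Curv2.euler k X F - genRank F * Curv2.euler k X (Coh.structureModule X)

theorem deg_eq_dg {n : ℕ} {E : X.Modules} (hE : FlatMod.IsFinLocFreeOfRank n E) :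
    Curv2.deg k X E n = dg k E := by
  rw [dg, genRank_eq hE]; rfl

theorem dg_add [IsProper (X ↘ Spec (CommRingCat.of k))] {S : ShortComplex X.Modules} (hS : S.ShortExact)
    (h₁ : Coh.IsCoh S.X₁) (h₂ : Coh.IsCoh S.X₂) (h₃ : Coh.IsCoh S.X₃) :
    dg k S.X₂ = dg k S.X₁ + dg k S.X₃ := by
  haveI := CurvLib.isNoetherian k (X := X)
  simp only [dg, CurvLib.euler_add_of_isCoh (k := k) hS h₁ h₂ h₃, genRank_add hS h₁ h₂ h₃]
  push_cast
  ring

theorem dg_of_isZero [IsProper (X ↘ Spec (CommRingCat.of k))] {F : X.Modules} (hF : IsZero F) :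
    dg k F = 0 := by
  have hM : Coh.IsCoh F := DevissLib.isCoh_of_isZero hF
  let S : ShortComplex X.Modules := ShortComplex.mk (𝟙 F) (0 : F ⟶ F) comp_zero
  have hS : S.ShortExact :=
    { exact := ShortComplex.exact_of_isZero_X₂ _ hF
      mono_f := inferInstanceAs (Mono (𝟙 F))
      epi_g := ⟨fun a b _ => hF.eq_of_src a b⟩ }
  have := dg_add (k := k) hS hM hM hM
  change dg k F = dg k F + dg k F at this
  omega

/-- A module of generic rank zero has nonnegative degree. -/
theorem dg_nonneg_of_rank_zero [IsProper (X ↘ Spec (CommRingCat.of k))] (hdim : topologicalKrullDim X = 1)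
    {T : X.Modules} (hT : Coh.IsCoh T) (h : genRank T = 0) :
    0 ≤ dg k T ∧ (dg k T = 0 → IsZero T) := by
  haveI := CurvLib.isNoetherian k (X := X)
  letI : Field (X.presheaf.stalk (genericPoint X)) := (inferInstance : Field X.functionField)
  haveI := DevissLib.isNoetherian_stalk hT (genericPoint X)
  have hη : genericPoint X ∉ CohB1.support T := fun hx => hx (
    haveI : Module.Finite (X.presheaf.stalk (genericPoint X)) (T.presheaf.stalk (genericPoint X)) :=
      inferInstanceAs (Module.Finite _ ((St (genericPoint X)).obj T))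
    (Module.finrank_zero_iff (R := X.presheaf.stalk (genericPoint X))).mp h)
  have hd : topologicalKrullDim (CohB1.support T) ≤ 0 :=
    CurvLib.topologicalKrullDim_le_zero_of_lt hdim (QCohLib.isClosed_support _ hT.2)
      (fun he => hη (he ▸ Set.mem_univ _))
  have he := CurvLib.euler_eq_h0 (k := k) hT hd
  refine ⟨by simp [dg, h, he], fun h0 => CurvLib.isZero_of_h0 (k := k) hT hd ?_⟩
  simpa [dg, h, he] using h0

end CurveVBLib

end
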