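import Groth.Agent.CurveVBLib.Slope
import Groth.Agent.QCohLib.LocSub

/-!
# The torsion submodule of a coherent module on an integral scheme
-/

set_option autoImplicit false
universe u

open CategoryTheory CategoryTheory.Limits AlgebraicGeometry TopologicalSpace Opposite
open DevissLib CurvLib QCohLib

noncomputable section

namespace CurveVBLib

variable {X : Scheme.{u}} [IsIntegral X]

/-- Sections vanishing at the generic point. -/
def torSub (F : X.Modules) : LocSub F where
  mem V a := ∀ h : genericPoint X ∈ V, gm F (genericPoint X) h a = 0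
  zero V h := gm_zero F _ h
  add {V a b} ha hb h := (map_add (F.presheaf.germ V (genericPoint X) h).hom a b).trans (((congr_arg₂ (· + ·) (ha h) (hb h)).trans (add_zero _)))
  smul {V} r {a} ha h := by rw [gm_smul, ha h, smul_zero]
  res {V W} hWV {a} ha h := by rw [gm_map]; exact ha (hWV h)
  local' {V} a hloc h := by
    obtain ⟨W, hW, hp, hm⟩ := hloc _ h
    rw [← gm_map F hW _ hp a]
    exact hm hp

theorem isCoh_torSub [IsLocallyNoetherian X] {F : X.Modules} (hF : Coh.IsCoh F) :
    Coh.IsCoh (torSub F).toModules := by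
  haveI : Coh.IsQCoh F := hF.1
  refine QCohLib.isCoh_of_mono (torSub F).ι hF ?_
  rw [isQCoh_iff_localizingAt]
  intro U hU f
  have H := localizingAt_of_isQCoh hU F f
  refine ⟨fun s => ?_, fun t ht => ?_⟩
  · obtain ⟨n, t, ht⟩ := H.exists_extend ((torSub F).ι.app _ s)
    have hmem : (torSub F).mem U (f • t) := fun h => by
      rw [gm_smul]
      by_cases hf : genericPoint X ∈ X.basicOpen f
      · rw [← gm_map F (X.basicOpen_le f) _ hf t, ht, gm_smul, (LocSub.ι_app_mem _ s) hf, smul_zero, smul_zero]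
      · have : X.presheaf.germ U (genericPoint X) h f = 0 := by
          by_contra hne
          letI : Field (X.presheaf.stalk (genericPoint X)) := (inferInstance : Field X.functionField)
          exact hf ((X.mem_basicOpen f _ h).mpr (IsUnit.mk0 _ hne))
        rw [this, zero_smul]
    refine ⟨n + 1, (torSub F).lift (f • t) hmem, (torSub F).ι_app_injective _ ?_⟩
    rw [QCohLib.app_map, LocSub.ι_lift, Scheme.Modules.map_smul, ht, Scheme.Modules.Hom.app_smul, smul_smul,
      pow_succ']
  · obtain ⟨n, hn⟩ := H.eq_zero ((torSub F).ι.app _ t) (by rw [← QCohLib.app_map, ht, map_zero])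
    refine ⟨n, (torSub F).ι_app_injective _ ?_⟩
    rw [Scheme.Modules.Hom.app_smul, hn, map_zero]

theorem genRank_torSub (F : X.Modules) : genRank (torSub F).toModules = 0 := by
  haveI : Subsingleton ((torSub F).toModules.presheaf.stalk (genericPoint X)) := by
    refine subsingleton_of_forall_eq 0 fun z => ?_
    obtain ⟨U, hU, s, rfl⟩ := TopCat.Presheaf.exists_germ_eq (torSub F).toModules.presheaf (x := genericPoint X) z
    have hinj : Function.Injective ((St (genericPoint X)).map (torSub F).ι).hom :=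
      (ModuleCat.mono_iff_injective _).mp inferInstance
    exact hinj (((DerSch.stalkFunctor_map_germ _ (torSub F).ι U hU s).trans (LocSub.ι_app_mem _ s hU)).trans
      (map_zero _).symm)
  exact Module.finrank_zero_of_subsingleton

/-- A coherent module without submodules of rank zero has torsion free stalks. -/
theorem torsionFree_of_no_rank_zero [IsLocallyNoetherian X] {F : X.Modules} (hF : Coh.IsCoh F)
    (h : ∀ (G : X.Modules) (i : G ⟶ F), Mono i → Coh.IsCoh G → genRank G = 0 → IsZero G) (x : X) :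
    NoZeroSMulDivisors (X.presheaf.stalk x) ((St x).obj F) := by
  have hz := h _ (torSub F).ι inferInstance (isCoh_torSub hF) (genRank_torSub F)
  refine ⟨fun {r m} hrm => or_iff_not_imp_left.mpr fun hr => ?_⟩
  obtain ⟨U, hxU, a, hm⟩ := exists_gm_eq F x m
  obtain ⟨V, hxV, g, hg⟩ := X.presheaf.exists_germ_eq (x := x) r
  let a' : Γ(F, U ⊓ V) := F.presheaf.map (homOfLE inf_le_left).op a
  let g' : Γ(X, U ⊓ V) := X.presheaf.map (homOfLE inf_le_right).op g
  have h1 : gm F x (show x ∈ U ⊓ V from ⟨hxU, hxV⟩) (g' • a') = 0 := by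
    rw [gm_smul, gm_map, hm, TopCat.Presheaf.germ_res_apply, hg]
    exact hrm
  obtain ⟨W, hxW, hWle, hW⟩ : ∃ (W : X.Opens) (_ : x ∈ W) (hle : W ≤ U ⊓ V),
      F.presheaf.map (homOfLE hle).op (g' • a') = 0 := by
    obtain ⟨W, hxW, i₁, i₂, hW⟩ := TopCat.Presheaf.germ_eq F.presheaf x (show x ∈ U ⊓ V from ⟨hxU, hxV⟩) (show x ∈ U ⊓ V from ⟨hxU, hxV⟩) (g' • a') 0
      (h1.trans (gm_zero F x _).symm)
    refine ⟨W, hxW, i₁.le, ?_⟩
    rw [Subsingleton.elim (homOfLE i₁.le) i₁, hW, map_zero]
  have hηW : genericPoint X ∈ W := ((genericPoint_spec X).mem_open_set_iff W.isOpen).mpr ⟨x, trivial, hxW⟩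
  have hη : genericPoint X ∈ U ⊓ V := hWle hηW
  have h2 : gm F (genericPoint X) hη (g' • a') = 0 := by
    rw [← gm_map F hWle _ hηW, hW, gm_zero]
  rw [gm_smul] at h2
  have hg0 : X.presheaf.germ (U ⊓ V) (genericPoint X) hη g' ≠ 0 := fun h0 => hr (by
    rw [← hg]
    have h3 : g' = 0 := germ_injective_of_isIntegral X _ _ (h0.trans (map_zero _).symm)
    rw [← TopCat.Presheaf.germ_res_apply X.presheaf (homOfLE (inf_le_right : U ⊓ V ≤ V)) x ⟨hxU, hxV⟩]
    exact (congrArg (X.presheaf.germ (U ⊓ V) x ⟨hxU, hxV⟩) h3).trans (map_zero _))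
  letI : Field (X.presheaf.stalk (genericPoint X)) := (inferInstance : Field X.functionField)
  have h3 : (torSub F).mem (U ⊓ V) a' := fun _ => (smul_eq_zero.mp h2).resolve_left hg0
  have h4 : a' = 0 := by
    rw [← LocSub.ι_lift (torSub F) a' h3]
    have : (torSub F).ι = 0 := hz.eq_of_src _ _
    rw [this]; rfl
  rw [← hm, ← gm_map F (inf_le_left : U ⊓ V ≤ U) x ⟨hxU, hxV⟩]
  exact (congrArg (gm F x (show x ∈ U ⊓ V from ⟨hxU, hxV⟩)) h4).trans (gm_zero F x _)

end CurveVBLib

end
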