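import Groth.Agent.CurveVBLib.MaxSub
import Groth.Agent.CurveVBLib.Torsion

/-!
# Maps of line bundles into bundles; saturation
-/

set_option autoImplicit false
universe u

open CategoryTheory CategoryTheory.Limits AlgebraicGeometry TopologicalSpace Opposite
open DevissLib CurvLib QCohLib

noncomputable section

namespace CurveVBLib

variable {X : Scheme.{u}} [IsIntegral X] {k : Type u} [Field k] [X.Over (Spec (CommRingCat.of k))]
  [IsProper (X ↘ Spec (CommRingCat.of k))] [Smooth (X ↘ Spec (CommRingCat.of k))]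
  (hdim : topologicalKrullDim X = 1)

include k hdim

/-- A nonzero map out of a line bundle into a bundle is injective. -/
theorem mono_of_line {A B : X.Modules} {n : ℕ} (hA : FlatMod.IsFinLocFreeOfRank 1 A)
    (hB : FlatMod.IsFinLocFreeOfRank n B) {ψ : A ⟶ B} (hψ : ψ ≠ 0) : Mono ψ := by
  obtain ⟨hK, hI, hrk, -⟩ := ker_im_data (k := k) (CurvLib.isCoh_of_locFree hA) (CurvLib.isCoh_of_locFree hB) ψ
  obtain ⟨-, -, -, -, hzI⟩ := sub_data (k := k) hdim hB (Abelian.image.ι ψ) hI
  obtain ⟨-, -, -, -, hzK⟩ := sub_data (k := k) hdim hA (kernel.ι ψ) hK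
  rw [genRank_eq hA] at hrk
  have h0 : genRank (Abelian.image ψ) ≠ 0 := fun h0 => hψ (by
    rw [← Abelian.image.fac ψ, (hzI h0).eq_of_src (Abelian.image.ι ψ) 0, comp_zero])
  have hz := hzK (by omega)
  exact Preadditive.mono_of_cancel_zero _ fun g hg => by
    rw [← kernel.lift_ι ψ g hg, hz.eq_of_tgt (kernel.lift ψ g hg) 0, zero_comp]

/-- A submodule of full rank. -/
theorem dg_le_of_mono {A B : X.Modules} {n : ℕ} (hA : Coh.IsCoh A) (hr : genRank A = n)
    (hB : FlatMod.IsFinLocFreeOfRank n B) (ψ : A ⟶ B) [Mono ψ] :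
    dg k A ≤ dg k B ∧ (dg k A = dg k B → IsIso ψ) := by
  obtain ⟨-, hC, hrk, hdg, -⟩ := sub_data (k := k) hdim hB ψ hA
  obtain ⟨h1, h2⟩ := dg_nonneg_of_rank_zero (k := k) hdim hC (by omega)
  refine ⟨by omega, fun he => ?_⟩
  have hz := h2 (by omega)
  haveI : Epi ψ := Preadditive.epi_of_cancel_zero _ fun g hg => by
    rw [← cokernel.π_desc _ g hg, hz.eq_of_src (cokernel.desc _ g hg) 0, comp_zero]
  exact isIso_of_mono_of_epi ψ

/-- A surjection between bundles of the same rank is bijective. -/
theorem isIso_of_epi_of_rank {A B : X.Modules} {n : ℕ} (hA : FlatMod.IsFinLocFreeOfRank n A) (hBc : Coh.IsCoh B)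
    (hr : genRank B = n) (ψ : A ⟶ B) [Epi ψ] : IsIso ψ := by
  obtain ⟨hK, hrk, -⟩ := epi_data (k := k) (CurvLib.isCoh_of_locFree hA) hBc ψ
  obtain ⟨-, -, -, -, hzK⟩ := sub_data (k := k) hdim hA (kernel.ι ψ) hK
  rw [genRank_eq hA] at hrk
  have hz := hzK (by omega)
  haveI : Mono ψ := Preadditive.mono_of_cancel_zero _ fun g hg => by
    rw [← kernel.lift_ι ψ g hg, hz.eq_of_tgt (kernel.lift ψ g hg) 0, zero_comp]
  exact isIso_of_mono_of_epi ψ

/-- Two line subbundles of a bundle are equal or one maps nonzero to the quotient by the other. -/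
theorem line_dichotomy {L N E Q : X.Modules} {n : ℕ} (hL : FlatMod.IsFinLocFreeOfRank 1 L)
    (hN : FlatMod.IsFinLocFreeOfRank 1 N) (hQ : FlatMod.IsFinLocFreeOfRank n Q) (f : L ⟶ E) [Mono f]
    (g : E ⟶ Q) (hfg : f ≫ g = 0) (hex : (ShortComplex.mk f g hfg).Exact) (j : N ⟶ E) [Mono j]
    (hq : FlatMod.IsFinLocFreeOfRank 1 (cokernel j)) :
    (∃ φ : N ≅ L, φ.hom ≫ f = j) ∨ Mono (j ≫ g) := by
  by_cases h : j ≫ g = 0
  · left
    let φ : N ⟶ L := hex.lift j h
    have hφ : φ ≫ f = j := hex.lift_f j h
    have hc : f ≫ cokernel.π j = 0 := by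
      by_contra hne
      haveI := mono_of_line (k := k) hdim hL hq hne
      have : φ = 0 := by
        rw [← cancel_mono (f ≫ cokernel.π j), zero_comp, ← Category.assoc, hφ, cokernel.condition]
      have hj : j = 0 := by rw [← hφ, this, zero_comp]
      have hz : IsZero N := (IsZero.iff_id_eq_zero _).mpr (by rw [← cancel_mono j, Category.id_comp, hj, comp_zero])
      have := genRank_of_isZero hz
      rw [genRank_eq hN] at this
      omega
    let l : L ⟶ N := Abelian.monoLift j f hc
    have hl : l ≫ j = f := Abelian.monoLift_comp j f hc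
    refine ⟨⟨φ, l, ?_, ?_⟩, hφ⟩
    · rw [← cancel_mono j, Category.assoc, hl, hφ, Category.id_comp]
    · rw [← cancel_mono f, Category.assoc, hφ, hl, Category.id_comp]
  · exact Or.inr (mono_of_line (k := k) hdim hN hQ h)

/-- Saturation of a submodule of a bundle. -/
theorem exists_saturation {r : ℕ} {E : X.Modules} (hE : FlatMod.IsFinLocFreeOfRank r E) {G : X.Modules}
    (i : G ⟶ E) [Mono i] (hG : Coh.IsCoh G) :
    ∃ (Q : X.Modules) (p : E ⟶ Q), Epi p ∧ FlatMod.IsFinLocFreeOfRank (genRank Q) Q ∧ r = genRank G + genRank Q ∧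
      dg k G + dg k Q ≤ dg k E := by
  haveI := CurvLib.isNoetherian k (X := X)
  have hEc := CurvLib.isCoh_of_locFree hE
  obtain ⟨-, hC, hrk, hdg, -⟩ := sub_data (k := k) hdim hE i hG
  have hT := isCoh_torSub hC
  have hrT := genRank_torSub (cokernel i)
  obtain ⟨hTd, -⟩ := dg_nonneg_of_rank_zero (k := k) hdim hT hrT
  let t := (torSub (cokernel i)).ι
  have hQ := QCohLib.isCoh_cokernel t hT.1 hC
  let S : ShortComplex X.Modules := ShortComplex.mk t (cokernel.π t) (cokernel.condition t)
  have hS : S.ShortExact :=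
    { exact := ShortComplex.exact_of_g_is_cokernel _ (cokernelIsCokernel t)
      mono_f := inferInstanceAs (Mono t)
      epi_g := inferInstanceAs (Epi (cokernel.π t)) }
  have r2 : genRank (cokernel i) = genRank (torSub (cokernel i)).toModules + genRank (cokernel t) :=
    genRank_add (S := S) hS hT hC hQ
  have d2 : dg k (cokernel i) = dg k (torSub (cokernel i)).toModules + dg k (cokernel t) :=
    dg_add (k := k) (S := S) hS hT hC hQ
  refine ⟨cokernel t, cokernel.π i ≫ cokernel.π t, inferInstance,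
    rank_genRank ((Groth.Agent.S1688.result X (fun x => regular_stalk (k := k) x) hdim.le _ hQ).mp
      (torsionFree_of_no_rank_zero hQ fun H j hj hH h0 => ?_)), by omega, by omega⟩
  -- the preimage of `H` in the cokernel consists of torsion
  obtain ⟨hP, r3, -⟩ := epi_data (k := k) hC (QCohLib.isCoh_cokernel j hH.1 hQ) (cokernel.π t ≫ cokernel.π j)
  let S₂ : ShortComplex X.Modules := ShortComplex.mk j (cokernel.π j) (cokernel.condition j)
  have hS₂ : S₂.ShortExact :=
    { exact := ShortComplex.exact_of_g_is_cokernel _ (cokernelIsCokernel j)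
      mono_f := inferInstanceAs (Mono j)
      epi_g := inferInstanceAs (Epi (cokernel.π j)) }
  have r4 : genRank (cokernel t) = genRank H + genRank (cokernel j) :=
    genRank_add (S := S₂) hS₂ hH hQ (QCohLib.isCoh_cokernel j hH.1 hQ)
  let P := kernel (cokernel.π t ≫ cokernel.π j)
  have hP0 : genRank P = 0 := by
    change genRank (kernel (cokernel.π t ≫ cokernel.π j)) = 0
    omega
  have hle : kernel.ι (cokernel.π t ≫ cokernel.π j) ≫ cokernel.π t = 0 := by
    haveI : Subsingleton (P.presheaf.stalk (genericPoint X)) := by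
      haveI := DevissLib.isNoetherian_stalk hP (genericPoint X)
      letI : Field (X.presheaf.stalk (genericPoint X)) := (inferInstance : Field X.functionField)
      haveI : Module.Finite (X.presheaf.stalk (genericPoint X)) (P.presheaf.stalk (genericPoint X)) :=
        inferInstanceAs (Module.Finite _ ((St (genericPoint X)).obj P))
      exact (Module.finrank_zero_iff (R := X.presheaf.stalk (genericPoint X))).mp hP0
    have hmem : ∀ (U : X.Opens) (s : Γ(P, U)),
        (torSub (cokernel i)).mem U ((kernel.ι (cokernel.π t ≫ cokernel.π j)).app U s) := fun U s h => by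
      refine (DerSch.stalkFunctor_map_germ _ (kernel.ι (cokernel.π t ≫ cokernel.π j)) U h s).symm.trans ?_
      exact (congrArg _ (Subsingleton.elim (α := P.presheaf.stalk (genericPoint X)) _ 0)).trans (map_zero _)
    apply Scheme.Modules.hom_ext
    intro U
    ext s
    change (cokernel.π t).app U ((kernel.ι (cokernel.π t ≫ cokernel.π j)).app U s) = 0
    rw [← LocSub.ι_lift (torSub (cokernel i)) _ (hmem U s)]
    change (t ≫ cokernel.π t).app U _ = 0
    rw [cokernel.condition]
    rfl
  have hj0 : j = 0 := by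
    obtain ⟨A, π, hπ, x, hx⟩ : ∃ (A : X.Modules) (π : A ⟶ H) (_ : Epi π) (x : A ⟶ cokernel i),
        x ≫ cokernel.π t = π ≫ j := by
      exact ⟨pullback j (cokernel.π t), pullback.fst _ _, inferInstance, pullback.snd _ _, pullback.condition.symm⟩
    have hx2 : x ≫ cokernel.π t ≫ cokernel.π j = 0 := by rw [← Category.assoc, hx, Category.assoc, cokernel.condition, comp_zero]
    rw [← cancel_epi π, comp_zero, ← hx, ← kernel.lift_ι _ x hx2, Category.assoc, hle, comp_zero]
  exact (IsZero.iff_id_eq_zero _).mpr (by rw [← cancel_mono j, Category.id_comp, hj0, comp_zero])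

end CurveVBLib

end
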