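import Groth.Agent.CurveVBLib.Torsion

/-!
# Semistable bundles of fixed slope
-/

set_option autoImplicit false
universe u

open CategoryTheory CategoryTheory.Limits AlgebraicGeometry TopologicalSpace Opposite
open DevissLib CurvLib

noncomputable section

namespace CurveVBLib

variable {X : Scheme.{u}} [IsIntegral X] {k : Type u} [Field k] [X.Over (Spec (CommRingCat.of k))]
  [IsProper (X ↘ Spec (CommRingCat.of k))]

theorem epi_data {A B : X.Modules} (hA : Coh.IsCoh A) (hB : Coh.IsCoh B) (π : A ⟶ B) [Epi π] :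
    Coh.IsCoh (kernel π) ∧ genRank A = genRank (kernel π) + genRank B ∧
      dg k A = dg k (kernel π) + dg k B := by
  haveI := CurvLib.isNoetherian k (X := X)
  have hK := QCohLib.isCoh_kernel π hA hB.1
  let S : ShortComplex X.Modules := ShortComplex.mk (kernel.ι π) π (kernel.condition π)
  have hS : S.ShortExact :=
    { exact := ShortComplex.exact_of_f_is_kernel _ (kernelIsKernel π)
      mono_f := inferInstanceAs (Mono (kernel.ι π))
      epi_g := inferInstanceAs (Epi π) }
  exact ⟨hK, genRank_add (S := S) hS hK hA hB, dg_add (k := k) (S := S) hS hK hA hB⟩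

variable [Smooth (X ↘ Spec (CommRingCat.of k))] (hdim : topologicalKrullDim X = 1)
  {r s : ℕ} {E F : X.Modules} (hE : FlatMod.IsFinLocFreeOfRank r E) (hF : FlatMod.IsFinLocFreeOfRank s F)

include hdim hF in
/-- The slope of a submodule of the cokernel against a submodule. -/
theorem coker_sub_le (hss : ModFun.IsSlopeSemistable k X F s) {A : X.Modules} (u : A ⟶ F)
    {G : X.Modules} (j : G ⟶ cokernel u) [Mono j] (hA : Coh.IsCoh A) (hG : Coh.IsCoh G) :
    (dg k F - dg k (cokernel u) + dg k G) * (s : ℤ) ≤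
      dg k F * ((genRank F : ℤ) - genRank (cokernel u) + genRank G) := by
  haveI := CurvLib.isNoetherian k (X := X)
  have hFc := CurvLib.isCoh_of_locFree hF
  have hC := QCohLib.isCoh_cokernel u hA.1 hFc
  have hQ := QCohLib.isCoh_cokernel j hG.1 hC
  obtain ⟨hJ, r1, d1⟩ := epi_data (k := k) hFc hQ (cokernel.π u ≫ cokernel.π j)
  let S : ShortComplex X.Modules := ShortComplex.mk j (cokernel.π j) (cokernel.condition j)
  have hS : S.ShortExact :=
    { exact := ShortComplex.exact_of_g_is_cokernel _ (cokernelIsCokernel j)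
      mono_f := inferInstanceAs (Mono j)
      epi_g := inferInstanceAs (Epi (cokernel.π j)) }
  have r2 : genRank (cokernel u) = genRank G + genRank (cokernel j) := genRank_add (S := S) hS hG hC hQ
  have d2 : dg k (cokernel u) = dg k G + dg k (cokernel j) := dg_add (k := k) (S := S) hS hG hC hQ
  have h := sub_le hdim hF hss (kernel.ι (cokernel.π u ≫ cokernel.π j)) hJ
  have e1 : dg k F - dg k (cokernel u) + dg k G = dg k (kernel (cokernel.π u ≫ cokernel.π j)) := by omega
  have e2 : (genRank F : ℤ) - genRank (cokernel u) + genRank G =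
      genRank (kernel (cokernel.π u ≫ cokernel.π j)) := by omega
  rw [e1, e2]
  exact h

include hdim hE hF in
/-- Kernel and cokernel of a map of semistable bundles of the same slope. -/
theorem ker_coker_semistable (hr : 0 < r) (hs : 0 < s) (hEss : ModFun.IsSlopeSemistable k X E r)
    (hFss : ModFun.IsSlopeSemistable k X F s)
    (hμ : Curv2.deg k X E r * (s : ℤ) = Curv2.deg k X F s * (r : ℤ)) (f : E ⟶ F) :
    (∃ r₀ : ℕ, FlatMod.IsFinLocFreeOfRank r₀ (kernel f) ∧
        Curv2.deg k X (kernel f) r₀ * (r : ℤ) = Curv2.deg k X E r * (r₀ : ℤ) ∧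
        ModFun.IsSlopeSemistable k X (kernel f) r₀) ∧
      (∃ s₀ : ℕ, FlatMod.IsFinLocFreeOfRank s₀ (cokernel f) ∧
        Curv2.deg k X (cokernel f) s₀ * (s : ℤ) = Curv2.deg k X F s * (s₀ : ℤ) ∧
        ModFun.IsSlopeSemistable k X (cokernel f) s₀) := by
  haveI := CurvLib.isNoetherian k (X := X)
  have hEc := CurvLib.isCoh_of_locFree hE
  have hFc := CurvLib.isCoh_of_locFree hF
  have hC := QCohLib.isCoh_cokernel f hEc.1 hFc
  rw [deg_eq_dg hE, deg_eq_dg hF] at hμ
  obtain ⟨hK, hI, hrk, hdg⟩ := ker_im_data (k := k) hEc hFc f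
  obtain ⟨hKr, -, -, -, -⟩ := sub_data (k := k) hdim hE (kernel.ι f) hK
  rw [genRank_eq hE] at hrk
  have r3 : genRank F = genRank (Abelian.image f) + genRank (cokernel f) :=
    genRank_add (S := imCokSeq f) (imCokSeq_shortExact f) hI hFc hC
  have d3 : dg k F = dg k (Abelian.image f) + dg k (cokernel f) :=
    dg_add (k := k) (S := imCokSeq f) (imCokSeq_shortExact f) hI hFc hC
  rw [genRank_eq hF] at r3
  have h1 := image_ge hdim hE hEss hFc f
  have h2 := sub_le hdim hF hFss (Abelian.image.ι f) hI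
  have hs' : (0 : ℤ) < s := by exact_mod_cast hs
  have hr' : (0 : ℤ) < r := by exact_mod_cast hr
  have hIr : dg k (Abelian.image f) * (r : ℤ) = dg k E * (genRank (Abelian.image f) : ℤ) := by
    refine le_antisymm (le_of_mul_le_mul_right ?_ hs') h1
    nlinarith [mul_le_mul_of_nonneg_right h2 hr'.le, congrArg (· * (genRank (Abelian.image f) : ℤ)) hμ]
  have hIs : dg k (Abelian.image f) * (s : ℤ) = dg k F * (genRank (Abelian.image f) : ℤ) := by
    refine mul_right_cancel₀ hr'.ne' ?_
    linear_combination (s : ℤ) * hIr + (genRank (Abelian.image f) : ℤ) * hμ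
  have rZ : (r : ℤ) = genRank (kernel f) + genRank (Abelian.image f) := by exact_mod_cast hrk
  have sZ : (s : ℤ) = genRank (Abelian.image f) + genRank (cokernel f) := by exact_mod_cast r3
  have hKμ : dg k (kernel f) * (r : ℤ) = dg k E * (genRank (kernel f) : ℤ) := by
    linear_combination (-(r : ℤ)) * hdg - hIr + dg k E * rZ
  have hCμ : dg k (cokernel f) * (s : ℤ) = dg k F * (genRank (cokernel f) : ℤ) := by
    linear_combination (-(s : ℤ)) * d3 - hIs + dg k F * sZ
  have hCsub : ∀ (G : X.Modules) (j : G ⟶ cokernel f), Mono j → Coh.IsCoh G →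
      dg k G * (s : ℤ) ≤ dg k F * (genRank G : ℤ) := fun G j hj hG => by
    have := coker_sub_le hdim hF hFss f j hEc hG
    rw [genRank_eq hF] at this
    nlinarith [congrArg (dg k F * ·) sZ]
  have hCr : FlatMod.IsFinLocFreeOfRank (genRank (cokernel f)) (cokernel f) := by
    refine rank_genRank ((Groth.Agent.S1688.result X (fun x => regular_stalk (k := k) x) hdim.le _ hC).mp
      (torsionFree_of_no_rank_zero hC fun G j hj hG h0 => ?_))
    obtain ⟨hnn, heq⟩ := dg_nonneg_of_rank_zero (k := k) hdim hG h0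
    have := hCsub G j hj hG
    rw [h0, Nat.cast_zero, mul_zero] at this
    exact heq (le_antisymm (nonpos_of_mul_nonpos_left this hs') hnn)
  refine ⟨⟨_, hKr, ?_, fun G n j hj hn hG => ?_⟩, ⟨_, hCr, ?_, fun G n j hj hn hG => ?_⟩⟩
  · rw [deg_eq_dg hKr, deg_eq_dg hE]; exact hKμ
  · have := sub_le hdim hE hEss (j ≫ kernel.ι f) (CurvLib.isCoh_of_locFree hG)
    rw [genRank_eq hG] at this
    rw [deg_eq_dg hG, deg_eq_dg hKr]
    refine le_of_mul_le_mul_right ?_ hr'
    nlinarith [mul_le_mul_of_nonneg_right this (Int.natCast_nonneg (genRank (kernel f))),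
      congrArg (· * (n : ℤ)) hKμ]
  · rw [deg_eq_dg hCr, deg_eq_dg hF]; exact hCμ
  · have := hCsub G j hj (CurvLib.isCoh_of_locFree hG)
    rw [genRank_eq hG] at this
    rw [deg_eq_dg hG, deg_eq_dg hCr]
    refine le_of_mul_le_mul_right ?_ hs'
    nlinarith [mul_le_mul_of_nonneg_right this (Int.natCast_nonneg (genRank (cokernel f))),
      congrArg (· * (n : ℤ)) hCμ]

end CurveVBLib

end
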