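import Groth.Agent.CurveVBLib.Basic
import Groth.Prelude.Def_ModFun2

/-!
# Slope semistable bundles on curves
-/

set_option autoImplicit false
universe u

open CategoryTheory CategoryTheory.Limits AlgebraicGeometry TopologicalSpace Opposite
open DevissLib CurvLib

noncomputable section

namespace CurveVBLib

variable {X : Scheme.{u}} [IsIntegral X] {k : Type u} [Field k] [X.Over (Spec (CommRingCat.of k))]
  [IsProper (X ↘ Spec (CommRingCat.of k))] [Smooth (X ↘ Spec (CommRingCat.of k))]
  (hdim : topologicalKrullDim X = 1) {r : ℕ} {E : X.Modules} (hE : FlatMod.IsFinLocFreeOfRank r E)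

include hdim hE

omit [IsProper (X ↘ Spec (CommRingCat.of k))] [Smooth (X ↘ Spec (CommRingCat.of k))] hdim in
theorem isCoh_self : Coh.IsCoh E := CurvLib.isCoh_of_locFree hE

/-- Submodules of bundles: locally free, and ranks and degrees add up. -/
theorem sub_data {F : X.Modules} (i : F ⟶ E) [Mono i] (hF : Coh.IsCoh F) :
    FlatMod.IsFinLocFreeOfRank (genRank F) F ∧ Coh.IsCoh (cokernel i) ∧
      r = genRank F + genRank (cokernel i) ∧ dg k E = dg k F + dg k (cokernel i) ∧
      (genRank F = 0 → IsZero F) := by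
  haveI := CurvLib.isNoetherian k (X := X)
  have hC := QCohLib.isCoh_cokernel i hF.1 (CurvLib.isCoh_of_locFree hE)
  have hFr := locFree_of_mono k hdim.le hE i hF
  let S : ShortComplex X.Modules := ShortComplex.mk i (cokernel.π i) (cokernel.condition i)
  have hS : S.ShortExact :=
    { exact := ShortComplex.exact_of_g_is_cokernel _ (cokernelIsCokernel i)
      mono_f := inferInstanceAs (Mono i)
      epi_g := inferInstanceAs (Epi (cokernel.π i)) }
  refine ⟨hFr, hC, (genRank_eq hE).symm.trans (genRank_mono i hF (CurvLib.isCoh_of_locFree hE)),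
    dg_add (k := k) (S := S) hS hF (CurvLib.isCoh_of_locFree hE) hC, fun h => ?_⟩
  rw [h] at hFr
  exact isZero_of_genRank_zero hE i hFr

theorem sub_le (hss : ModFun.IsSlopeSemistable k X E r) {F : X.Modules} (i : F ⟶ E) [Mono i]
    (hF : Coh.IsCoh F) : dg k F * (r : ℤ) ≤ dg k E * (genRank F : ℤ) := by
  obtain ⟨hFr, -, -, -, hz⟩ := sub_data (k := k) hdim hE i hF
  rcases Nat.eq_zero_or_pos (genRank F) with h0 | hpos
  · rw [dg_of_isZero (hz h0), h0]; simp
  · have := hss F (genRank F) i inferInstance hpos hFr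
    rwa [deg_eq_dg hFr, deg_eq_dg hE] at this

theorem stable_semistable (hst : ModFun.IsSlopeStable k X E r) : ModFun.IsSlopeSemistable k X E r := by
  intro F r' i hi hr' hF
  obtain ⟨-, hC, hrk, hdg, -⟩ := sub_data (k := k) hdim hE i (CurvLib.isCoh_of_locFree hF)
  rw [genRank_eq hF] at hrk
  rcases Nat.lt_or_ge r' r with hlt | hge
  · exact (hst F r' i hi hr' hlt hF).le
  · obtain rfl : r' = r := by omega
    rw [deg_eq_dg hF, deg_eq_dg hE, hdg]
    exact mul_le_mul_of_nonneg_right (le_add_of_nonneg_right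
      (dg_nonneg_of_rank_zero hdim hC (by omega)).1) (Int.natCast_nonneg _)

theorem sub_lt (hst : ModFun.IsSlopeStable k X E r) {F : X.Modules} (i : F ⟶ E) [Mono i]
    (hF : Coh.IsCoh F) (h0 : ¬ IsZero F) (hi : ¬ IsIso i) :
    dg k F * (r : ℤ) < dg k E * (genRank F : ℤ) := by
  obtain ⟨hFr, hC, hrk, hdg, hz⟩ := sub_data (k := k) hdim hE i hF
  have hpos : 0 < genRank F := Nat.pos_of_ne_zero fun h => h0 (hz h)
  rcases Nat.lt_or_ge (genRank F) r with hlt | hge
  · have := hst F (genRank F) i inferInstance hpos hlt hFr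
    rwa [deg_eq_dg hFr, deg_eq_dg hE] at this
  · have hr : genRank F = r := by omega
    have hC0 : genRank (cokernel i) = 0 := by omega
    obtain ⟨hnn, heq⟩ := dg_nonneg_of_rank_zero (k := k) hdim hC hC0
    have hne : dg k (cokernel i) ≠ 0 := fun h => hi (by
      haveI : Epi i := Preadditive.epi_of_cancel_zero _ fun g hg => by
        rw [← cokernel.π_desc _ g hg, (heq h).eq_of_src (cokernel.desc _ g hg) 0, comp_zero]
      exact isIso_of_mono_of_epi i)
    rw [hdg, hr]
    exact mul_lt_mul_of_pos_right (by omega) (by omega)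

omit hdim hE in
theorem ker_im_data {A B : X.Modules} (hA : Coh.IsCoh A) (hB : Coh.IsCoh B) (φ : A ⟶ B) :
    Coh.IsCoh (kernel φ) ∧ Coh.IsCoh (Abelian.image φ) ∧
      genRank A = genRank (kernel φ) + genRank (Abelian.image φ) ∧
      dg k A = dg k (kernel φ) + dg k (Abelian.image φ) := by
  haveI := CurvLib.isNoetherian k (X := X)
  have hK := QCohLib.isCoh_kernel φ hA hB.1
  have hI := DevissLib.isCoh_image φ hA hB
  exact ⟨hK, hI, genRank_add (S := kerImSeq φ) (kerImSeq_shortExact φ) hK hA hI,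
    dg_add (k := k) (S := kerImSeq φ) (kerImSeq_shortExact φ) hK hA hI⟩

/-- Quotients of a semistable bundle have larger slope. -/
theorem image_ge (hss : ModFun.IsSlopeSemistable k X E r) {B : X.Modules} (hB : Coh.IsCoh B) (φ : E ⟶ B) :
    dg k E * (genRank (Abelian.image φ) : ℤ) ≤ dg k (Abelian.image φ) * (r : ℤ) := by
  obtain ⟨hK, -, hrk, hdg⟩ := ker_im_data (k := k) (CurvLib.isCoh_of_locFree hE) hB φ
  rw [genRank_eq hE] at hrk
  have := sub_le hdim hE hss (kernel.ι φ) hK
  rw [hdg] at this ⊢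
  rw [hrk] at this ⊢
  push_cast at this ⊢
  linarith

/-- Between bundles of the same rank and degree, one stable, nonzero maps are isomorphisms. -/
theorem isIso_of_stable {E' : X.Modules} (hE' : FlatMod.IsFinLocFreeOfRank r E')
    (hdeg : Curv2.deg k X E r = Curv2.deg k X E' r) (hss : ModFun.IsSlopeSemistable k X E r)
    (hss' : ModFun.IsSlopeSemistable k X E' r)
    (hst : ModFun.IsSlopeStable k X E r ∨ ModFun.IsSlopeStable k X E' r) {φ : E ⟶ E'} (hφ : φ ≠ 0) :
    IsIso φ := by
  rw [deg_eq_dg hE, deg_eq_dg hE'] at hdeg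
  obtain ⟨hK, hI, hrk, hdg⟩ := ker_im_data (k := k) (CurvLib.isCoh_of_locFree hE) (CurvLib.isCoh_of_locFree hE') φ
  rw [genRank_eq hE] at hrk
  have hI0 : ¬ IsZero (Abelian.image φ) := fun hz => hφ (by
    rw [← Abelian.image.fac φ, hz.eq_of_src (Abelian.image.ι φ) 0, comp_zero])
  obtain ⟨-, -, hrI, -, hzI⟩ := sub_data (k := k) hdim hE' (Abelian.image.ι φ) hI
  have h1 := image_ge hdim hE hss (CurvLib.isCoh_of_locFree hE') φ
  have h2 := sub_le hdim hE' hss' (Abelian.image.ι φ) hI
  rw [← hdeg] at h2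
  have hK0 : IsZero (kernel φ) := by
    by_contra hz
    rcases hst with hs | hs
    · have hi : ¬ IsIso (kernel.ι φ) := fun hi => hφ (by
        rw [← cancel_epi (kernel.ι φ), kernel.condition, comp_zero])
      have h3 := sub_lt hdim hE hs (kernel.ι φ) hK hz hi
      rw [hdg] at h3 h2
      rw [hrk] at h3 h2
      push_cast at h3 h2
      linarith
    · by_cases hi : IsIso (Abelian.image.ι φ)
      · have hr' : genRank (Abelian.image φ) = r := by
          haveI := hi
          have : genRank (cokernel (Abelian.image.ι φ)) = 0 := genRank_of_isZero (isZero_cokernel_of_epi _)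
          omega
        obtain ⟨-, -, -, -, hzK⟩ := sub_data (k := k) hdim hE (kernel.ι φ) hK
        exact hz (hzK (by omega))
      · have h3 := sub_lt hdim hE' hs (Abelian.image.ι φ) hI hI0 hi
        rw [← hdeg] at h3
        linarith
  haveI : Mono φ := Preadditive.mono_of_cancel_zero _ fun g hg => by
    rw [← kernel.lift_ι φ g hg, hK0.eq_of_tgt (kernel.lift φ g hg) 0, zero_comp]
  obtain ⟨-, hC, hr', hd', -⟩ := sub_data (k := k) hdim hE' φ (CurvLib.isCoh_of_locFree hE)
  rw [genRank_eq hE] at hr'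
  have hz : IsZero (cokernel φ) := (dg_nonneg_of_rank_zero (k := k) hdim hC (by omega)).2 (by omega)
  haveI : Epi φ := Preadditive.epi_of_cancel_zero _ fun g hg => by
    rw [← cokernel.π_desc _ g hg, hz.eq_of_src (cokernel.desc _ g hg) 0, comp_zero]
  exact isIso_of_mono_of_epi φ

omit hE in
/-- No maps from larger to smaller slope. -/
theorem hom_eq_zero {E' : X.Modules} {s : ℕ} (hE : FlatMod.IsFinLocFreeOfRank r E)
    (hE' : FlatMod.IsFinLocFreeOfRank s E')
    (hss : ModFun.IsSlopeSemistable k X E r) (hss' : ModFun.IsSlopeSemistable k X E' s)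
    (h : Curv2.deg k X E' s * (r : ℤ) < Curv2.deg k X E r * (s : ℤ)) (φ : E ⟶ E') : φ = 0 := by
  by_contra hφ
  rw [deg_eq_dg hE, deg_eq_dg hE'] at h
  obtain ⟨hK, hI, hrk, hdg⟩ := ker_im_data (k := k) (CurvLib.isCoh_of_locFree hE) (CurvLib.isCoh_of_locFree hE') φ
  obtain ⟨-, -, -, -, hzI⟩ := sub_data (k := k) hdim hE' (Abelian.image.ι φ) hI
  have hI0 : 0 < genRank (Abelian.image φ) := Nat.pos_of_ne_zero fun h0 => hφ (by
    rw [← Abelian.image.fac φ, (hzI h0).eq_of_src (Abelian.image.ι φ) 0, comp_zero])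
  have h1 := image_ge hdim hE hss (CurvLib.isCoh_of_locFree hE') φ
  have h2 := sub_le hdim hE' hss' (Abelian.image.ι φ) hI
  nlinarith [mul_le_mul_of_nonneg_right h1 (Int.natCast_nonneg s), mul_le_mul_of_nonneg_right h2 (Int.natCast_nonneg r),
    mul_lt_mul_of_pos_right h (Int.natCast_pos.mpr hI0)]

end CurveVBLib

end
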