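import Groth.Agent.CurveVBLib.Slope
import Groth.Agent.StabLib.Simple
import Mathlib.RingTheory.Nilpotent.Basic
import Mathlib.CategoryTheory.Preadditive.Basic

/-!
# Fitting's lemma for bundles on curves
-/

set_option autoImplicit false
universe u

open CategoryTheory CategoryTheory.Limits AlgebraicGeometry TopologicalSpace Opposite
open DevissLib CurvLib

noncomputable section

namespace CurveVBLib

variable {X : Scheme.{u}} [IsIntegral X] {k : Type u} [Field k] [X.Over (Spec (CommRingCat.of k))]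
  [IsProper (X ↘ Spec (CommRingCat.of k))] [Smooth (X ↘ Spec (CommRingCat.of k))]
  (hdim : topologicalKrullDim X = 1) {r : ℕ} {E : X.Modules} (hE : FlatMod.IsFinLocFreeOfRank r E)

omit [IsIntegral X] [IsProper (X ↘ Spec (CommRingCat.of k))] [Smooth (X ↘ Spec (CommRingCat.of k))] in
theorem split_of_retraction {I : X.Modules} (ι : I ⟶ E) (p : E ⟶ I) (h : ι ≫ p = 𝟙 I) :
    Nonempty (E ≅ I ⊞ kernel p) :=
  ⟨{ hom := biprod.lift p (kernel.lift p (𝟙 E - p ≫ ι)
        (by rw [Preadditive.sub_comp, Category.id_comp, Category.assoc, h, Category.comp_id, sub_self]))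
     inv := biprod.desc ι (kernel.ι p)
     hom_inv_id := by simp [biprod.lift_desc]
     inv_hom_id := by
      apply biprod.hom_ext' <;> apply biprod.hom_ext
      · simp [h]
      · rw [← cancel_mono (kernel.ι p)]
        simp [Preadditive.comp_sub, reassoc_of% h]
      · simp [kernel.condition]
      · rw [← cancel_mono (kernel.ι p)]
        simp [Preadditive.comp_sub, kernel.condition_assoc] }⟩

include k hdim hE

/-- An endomorphism of an indecomposable bundle is invertible or nilpotent. -/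
theorem isIso_or_nilpotent (hind : ∀ E₁ E₂ : X.Modules, Nonempty (E ≅ E₁ ⊞ E₂) → IsZero E₁ ∨ IsZero E₂)
    (f : End E) : IsIso f ∨ IsNilpotent f := by
  haveI := CurvLib.isNoetherian k (X := X)
  have hEc := CurvLib.isCoh_of_locFree hE
  let N : ℕ → ℕ := fun n => genRank (Abelian.image (f ^ n : E ⟶ E))
  obtain ⟨n, hn⟩ : ∃ n, ∀ m, N n ≤ N m := by
    obtain ⟨_, ⟨n, rfl⟩, hmin⟩ := wellFounded_lt.has_min (Set.range N) ⟨N 0, 0, rfl⟩
    exact ⟨n, fun m => not_lt.mp (hmin _ ⟨m, rfl⟩)⟩
  let φ : E ⟶ E := (f ^ (n + 1) : End E)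
  have hle : ∀ a b : ℕ, genRank (Abelian.image (f ^ (a + b) : E ⟶ E)) ≤ genRank (Abelian.image (f ^ b : E ⟶ E)) := by
    intro a b
    obtain ⟨hK1, hI1, hr1, -⟩ := ker_im_data (k := k) hEc hEc (f ^ b : E ⟶ E)
    obtain ⟨hK2, hI2, hr2, -⟩ := ker_im_data (k := k) hEc hEc (f ^ (a + b) : E ⟶ E)
    have hcomp : (f ^ (a + b) : E ⟶ E) = (f ^ b : E ⟶ E) ≫ (f ^ a : E ⟶ E) := by
      rw [pow_add]; rfl
    let m : kernel (f ^ b : E ⟶ E) ⟶ kernel (f ^ (a + b) : E ⟶ E) :=
      kernel.lift _ (kernel.ι _) (by rw [hcomp, kernel.condition_assoc, zero_comp])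
    haveI : Mono (m ≫ kernel.ι (f ^ (a + b) : E ⟶ E)) := by rw [kernel.lift_ι]; infer_instance
    haveI : Mono m := mono_of_mono m (kernel.ι _)
    have := genRank_mono m hK1 hK2
    omega
  obtain ⟨hK, hI, hrk, hdg⟩ := ker_im_data (k := k) hEc hEc φ
  let I := Abelian.image φ
  let α : I ⟶ I := Abelian.image.ι φ ≫ Abelian.factorThruImage φ
  obtain ⟨hI', -, -, -, -⟩ := sub_data (k := k) hdim hE (Abelian.image.ι φ) hI
  obtain ⟨hKα, hIα, hrα, hdα⟩ := ker_im_data (k := k) hI hI α
  have h2 : (f ^ (n + 1 + (n + 1)) : E ⟶ E) = Abelian.factorThruImage φ ≫ α ≫ Abelian.image.ι φ := by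
    simp only [α, Category.assoc, reassoc_of% (Abelian.image.fac φ), Abelian.image.fac]
    rw [pow_add]; rfl
  have hrankα : genRank (kernel α) = 0 := by
    obtain ⟨hK2, hI2, hr2, -⟩ := ker_im_data (k := k) hEc hEc (f ^ (n + 1 + (n + 1)) : E ⟶ E)
    -- the kernel of the square maps onto the kernel of `α`
    let u : kernel (f ^ (n + 1 + (n + 1)) : E ⟶ E) ⟶ kernel α :=
      kernel.lift α (kernel.ι _ ≫ Abelian.factorThruImage φ) (by
        rw [← cancel_mono (Abelian.image.ι φ), zero_comp, Category.assoc, Category.assoc, ← h2,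
          kernel.condition])
    have hu : kernel φ ⟶ kernel (f ^ (n + 1 + (n + 1)) : E ⟶ E) :=
      kernel.lift _ (kernel.ι φ) (by rw [pow_add]; exact (kernel.condition_assoc φ _).trans zero_comp)
    have e1 : N (n + 1) = N n := le_antisymm (by rw [add_comm]; exact hle 1 n) (hn _)
    have e2 : N (n + 1 + (n + 1)) = N (n + 1) := le_antisymm (hle _ _) (e1 ▸ hn _)
    -- compare images
    let w : Abelian.image (f ^ (n + 1 + (n + 1)) : E ⟶ E) ⟶ I := by
      refine kernel.lift _ (Abelian.image.ι _) ?_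
      rw [← cancel_epi (Abelian.factorThruImage (f ^ (n + 1 + (n + 1)) : E ⟶ E)), ← Category.assoc, Abelian.image.fac, comp_zero,
        h2, Category.assoc, Category.assoc]
      simp [Abelian.image.ι, kernel.condition]
    have hw : w ≫ Abelian.image.ι φ = Abelian.image.ι _ := kernel.lift_ι _ _ _
    haveI : Mono (w ≫ Abelian.image.ι φ) := by rw [hw]; infer_instance
    haveI : Mono w := mono_of_mono w (Abelian.image.ι φ)
    let β : Abelian.image α ⟶ I := Abelian.image.ι α
    have hfac : Abelian.factorThruImage φ ≫ α = Abelian.factorThruImage (f ^ (n + 1 + (n + 1)) : E ⟶ E) ≫ w := by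
      rw [← cancel_mono (Abelian.image.ι φ), Category.assoc (Abelian.factorThruImage φ) α, Category.assoc _ w, hw,
        Abelian.image.fac]
      exact h2.symm
    -- the image of `α` is contained in `w`
    have hz : α ≫ cokernel.π w = 0 := by
      rw [← cancel_epi (Abelian.factorThruImage φ), ← Category.assoc, hfac, Category.assoc, cokernel.condition,
        comp_zero, comp_zero]
    have hCw := QCohLib.isCoh_cokernel w hI2.1 hI
    have hrw := genRank_mono w hI2 hI
    -- the image of `w` is contained in that of `α`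
    have hz2 : w ≫ cokernel.π α = 0 := by
      rw [← cancel_epi (Abelian.factorThruImage (f ^ (n + 1 + (n + 1)) : E ⟶ E)), ← Category.assoc, ← hfac,
        Category.assoc, cokernel.condition, comp_zero, comp_zero]
    let v : Abelian.image (f ^ (n + 1 + (n + 1)) : E ⟶ E) ⟶ Abelian.image α := kernel.lift _ w hz2
    haveI : Mono (v ≫ Abelian.image.ι α) := by rw [kernel.lift_ι]; infer_instance
    haveI : Mono v := mono_of_mono v (Abelian.image.ι α)
    have hv := genRank_mono v hI2 hIα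
    simp only [N] at e2
    change genRank (Abelian.image (f ^ (n + 1 + (n + 1)) : E ⟶ E)) = genRank I at e2
    have hIeq : genRank I = genRank (Abelian.image φ) := rfl
    omega
  have hKz : IsZero (kernel α) :=
    (sub_data (k := k) hdim hI' (kernel.ι α) hKα).2.2.2.2 hrankα
  haveI : Mono α := Preadditive.mono_of_cancel_zero _ fun g hg => by
    rw [← kernel.lift_ι α g hg, hKz.eq_of_tgt (kernel.lift α g hg) 0, zero_comp]
  have hαiso : IsIso α := by
    obtain ⟨-, hC, hr', hd', -⟩ := sub_data (k := k) hdim hI' α hI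
    have hIeq : genRank I = genRank (Abelian.image φ) := rfl
    have hIeq' : dg k I = dg k (Abelian.image φ) := rfl
    have hz : IsZero (cokernel α) := (dg_nonneg_of_rank_zero (k := k) hdim hC (by omega)).2 (by omega)
    haveI : Epi α := Preadditive.epi_of_cancel_zero _ fun g hg => by
      rw [← cokernel.π_desc _ g hg, hz.eq_of_src (cokernel.desc _ g hg) 0, comp_zero]
    exact isIso_of_mono_of_epi α
  let p : E ⟶ I := Abelian.factorThruImage φ ≫ inv α
  have hp : Abelian.image.ι φ ≫ p = 𝟙 I := by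
    rw [← Category.assoc]; exact IsIso.hom_inv_id α
  obtain ⟨e⟩ := split_of_retraction (Abelian.image.ι φ) p hp
  rcases hind _ _ ⟨e⟩ with hz | hz
  · refine Or.inr ⟨n + 1, ?_⟩
    change φ = 0
    rw [← Abelian.image.fac φ, hz.eq_of_src (Abelian.image.ι φ) 0, comp_zero]
  · refine Or.inl ?_
    haveI : Mono p := Preadditive.mono_of_cancel_zero _ fun g hg => by
      rw [← kernel.lift_ι p g hg, hz.eq_of_tgt (kernel.lift p g hg) 0, zero_comp]
    haveI : Epi p := SplitEpi.epi ⟨Abelian.image.ι φ, hp⟩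
    haveI : IsIso p := isIso_of_mono_of_epi p
    haveI : IsIso (Abelian.image.ι φ) := by
      have : Abelian.image.ι φ = inv p := by rw [← cancel_mono p, hp, IsIso.inv_hom_id]
      rw [this]; infer_instance
    haveI : IsIso (Abelian.factorThruImage φ) := by
      have : Abelian.factorThruImage φ = p ≫ α := by simp [p]
      rw [this]; infer_instance
    have hu : IsUnit (f ^ (n + 1)) := by
      haveI : IsIso φ := by rw [← Abelian.image.fac φ]; infer_instance
      exact (isUnit_iff_isIso _).mpr inferInstance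
    exact (isUnit_iff_isIso _).mp ((isUnit_pow_iff (Nat.succ_ne_zero n)).mp hu)

/-- The endomorphisms of an indecomposable bundle form a local ring. -/
theorem isIso_of_add (hind : ∀ E₁ E₂ : X.Modules, Nonempty (E ≅ E₁ ⊞ E₂) → IsZero E₁ ∨ IsZero E₂)
    (f₁ f₂ : E ⟶ E) (h : IsIso (f₁ + f₂)) : IsIso f₁ ∨ IsIso f₂ := by
  let g : End E := f₁ ≫ inv (f₁ + f₂)
  rcases isIso_or_nilpotent (k := k) hdim hE hind g with hg | hg
  · left
    haveI : IsIso (f₁ ≫ inv (f₁ + f₂)) := hg
    exact IsIso.of_isIso_comp_right f₁ (inv (f₁ + f₂))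
  · right
    haveI : IsIso (1 - g : End E) := (isUnit_iff_isIso _).mp hg.isUnit_one_sub
    have e : f₂ = (1 - g : End E) ≫ (f₁ + f₂) := by
      change f₂ = (𝟙 E - f₁ ≫ inv (f₁ + f₂)) ≫ (f₁ + f₂)
      rw [Preadditive.sub_comp, Category.id_comp, Category.assoc, IsIso.inv_hom_id, Category.comp_id,
        add_sub_cancel_left]
    rw [e]
    infer_instance

omit [IsIntegral X] [IsProper (X ↘ Spec (CommRingCat.of k))] [Smooth (X ↘ Spec (CommRingCat.of k))] hdim hE in
theorem indecomposable_of_local (h : ∀ f₁ f₂ : E ⟶ E, IsIso (f₁ + f₂) → IsIso f₁ ∨ IsIso f₂)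
    (E₁ E₂ : X.Modules) (he : Nonempty (E ≅ E₁ ⊞ E₂)) : IsZero E₁ ∨ IsZero E₂ := by
  obtain ⟨e⟩ := he
  let p₁ : E ⟶ E := e.hom ≫ biprod.fst ≫ biprod.inl ≫ e.inv
  let p₂ : E ⟶ E := e.hom ≫ biprod.snd ≫ biprod.inr ≫ e.inv
  have hsum : p₁ + p₂ = 𝟙 E := by
    simp only [p₁, p₂, ← Preadditive.comp_add]
    rw [← Category.assoc (biprod.fst : E₁ ⊞ E₂ ⟶ E₁), ← Category.assoc (biprod.snd : E₁ ⊞ E₂ ⟶ E₂),
      ← Preadditive.add_comp, biprod.total, Category.id_comp, Iso.hom_inv_id]
  rcases h p₁ p₂ (by rw [hsum]; infer_instance) with hi | hi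
  · right
    rw [IsZero.iff_id_eq_zero, ← cancel_mono ((biprod.inr : E₂ ⟶ E₁ ⊞ E₂) ≫ e.inv ≫ p₁)]
    simp [p₁]
  · left
    rw [IsZero.iff_id_eq_zero, ← cancel_mono ((biprod.inl : E₁ ⟶ E₁ ⊞ E₂) ≫ e.inv ≫ p₂)]
    simp [p₂]

end CurveVBLib

end
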