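import Groth.Agent.CurveVBLib.Abelian

/-!
# The maximal destabilising subbundle
-/

set_option autoImplicit false
universe u

open CategoryTheory CategoryTheory.Limits AlgebraicGeometry TopologicalSpace Opposite
open DevissLib CurvLib

noncomputable section

namespace CurveVBLib

variable {X : Scheme.{u}} [IsIntegral X] {k : Type u} [Field k] [X.Over (Spec (CommRingCat.of k))]
  [IsProper (X ↘ Spec (CommRingCat.of k))] [Smooth (X ↘ Spec (CommRingCat.of k))]
  (hdim : topologicalKrullDim X = 1) {r : ℕ} {E : X.Modules} (hE : FlatMod.IsFinLocFreeOfRank r E)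

include hdim hE

theorem dg_le_bound {G : X.Modules} (j : G ⟶ E) [Mono j] (hG : Coh.IsCoh G) :
    dg k G ≤ (Module.finrank k (Coh.HH X E 0) : ℤ) + r * |Curv2.euler k X (Coh.structureModule X)| := by
  haveI := CurvLib.isNoetherian k (X := X)
  obtain ⟨-, hC, hrk, -, -⟩ := sub_data (k := k) hdim hE j hG
  let S : ShortComplex X.Modules := ShortComplex.mk j (cokernel.π j) (cokernel.condition j)
  have hS : S.ShortExact :=
    { exact := ShortComplex.exact_of_g_is_cokernel _ (cokernelIsCokernel j)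
      mono_f := inferInstanceAs (Mono j)
      epi_g := inferInstanceAs (Epi (cokernel.π j)) }
  haveI := CurvLib.finite_HH (k := k) (CurvLib.isCoh_of_locFree hE) 0
  have h0 : Module.finrank k (Coh.HH X G 0) ≤ Module.finrank k (Coh.HH X E 0) :=
    LinearMap.finrank_le_finrank_of_injective (f := CurvLib.hMap (k := k) S.f 0) (CurvLib.injective₀ hS)
  have he : Curv2.euler k X G ≤ (Module.finrank k (Coh.HH X E 0) : ℤ) := by
    rw [CurvLib.euler_curve (k := k) hdim G]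
    omega
  have h2 : |(genRank G : ℤ) * Curv2.euler k X (Coh.structureModule X)| ≤
      r * |Curv2.euler k X (Coh.structureModule X)| := by
    rw [abs_mul, Nat.abs_cast]
    exact mul_le_mul_of_nonneg_right (by exact_mod_cast (show genRank G ≤ r by omega)) (abs_nonneg _)
  rw [dg]
  linarith [(abs_le.mp h2).1]

/-- A submodule of largest slope and, among those, of largest rank. -/
theorem exists_maxSub (hr : 0 < r) :
    ∃ (E₁ : X.Modules) (i₁ : E₁ ⟶ E), Mono i₁ ∧ Coh.IsCoh E₁ ∧ 0 < genRank E₁ ∧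
      ∀ (G : X.Modules) (j : G ⟶ E), Mono j → Coh.IsCoh G → 0 < genRank G →
        dg k G * (genRank E₁ : ℤ) ≤ dg k E₁ * (genRank G : ℤ) ∧
        (dg k G * (genRank E₁ : ℤ) = dg k E₁ * (genRank G : ℤ) → genRank G ≤ genRank E₁) := by
  classical
  let P : ℕ → ℤ → Prop := fun n z =>
    ∃ (G : X.Modules) (j : G ⟶ E), Mono j ∧ Coh.IsCoh G ∧ genRank G = n ∧ dg k G = z
  have hbd : ∀ n, (∃ z, P n z) → ∃ z, P n z ∧ ∀ z', P n z' → z' ≤ z := fun n hn =>
    Int.exists_greatest_of_bdd ⟨(Module.finrank k (Coh.HH X E 0) : ℤ) +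
      r * |Curv2.euler k X (Coh.structureModule X)|, fun z ⟨G, j, hj, hG, _, hz⟩ =>
        hz ▸ dg_le_bound hdim hE j hG⟩ hn
  choose! g hg hg' using hbd
  let S := (Finset.Icc 1 r).filter fun n => ∃ z, P n z
  have hS : S.Nonempty := ⟨r, Finset.mem_filter.mpr ⟨Finset.mem_Icc.mpr ⟨hr, le_rfl⟩,
    dg k E, E, 𝟙 E, inferInstance, CurvLib.isCoh_of_locFree hE, genRank_eq hE, rfl⟩⟩
  obtain ⟨n, hn, hmax⟩ := S.exists_max_image (fun n => toLex ((g n : ℚ) / n, n)) hS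
  obtain ⟨hn1, hnP⟩ := Finset.mem_filter.mp hn
  obtain ⟨E₁, i₁, hi₁, hE₁, hrk, hd⟩ := hg n hnP
  have hn0 : 0 < n := (Finset.mem_Icc.mp hn1).1
  refine ⟨E₁, i₁, hi₁, hE₁, hrk ▸ hn0, fun G j hj hG hpos => ?_⟩
  obtain ⟨-, -, hrG, -, -⟩ := sub_data (k := k) hdim hE j hG
  have hm : genRank G ∈ S := Finset.mem_filter.mpr ⟨Finset.mem_Icc.mpr ⟨hpos, by omega⟩,
    dg k G, G, j, hj, hG, rfl, rfl⟩
  have h1 : dg k G ≤ g (genRank G) := hg' _ ⟨_, G, j, hj, hG, rfl, rfl⟩ _ ⟨G, j, hj, hG, rfl, rfl⟩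
  have hq : (0 : ℚ) < (genRank G : ℚ) := by exact_mod_cast hpos
  have hnq : (0 : ℚ) < (n : ℚ) := by exact_mod_cast hn0
  have h1' : (dg k G : ℚ) ≤ (g (genRank G) : ℚ) := by exact_mod_cast h1
  rw [hrk, hd]
  have hmax' := hmax _ hm
  rw [Prod.Lex.toLex_le_toLex] at hmax'
  rcases hmax' with hlt | ⟨heq, hle⟩
  · have hlt' : (g (genRank G) : ℚ) / genRank G < (g n : ℚ) / n := hlt
    rw [div_lt_div_iff₀ hq hnq] at hlt'
    have h3 : dg k G * (n : ℤ) < g n * (genRank G : ℤ) := by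
      have : (dg k G : ℚ) * n < (g n : ℚ) * genRank G := by nlinarith
      exact_mod_cast this
    exact ⟨h3.le, fun he => absurd he h3.ne⟩
  · have heq' : (g (genRank G) : ℚ) / genRank G = (g n : ℚ) / n := heq
    rw [div_eq_div_iff hq.ne' hnq.ne'] at heq'
    refine ⟨?_, fun _ => hle⟩
    have : (dg k G : ℚ) * n ≤ (g n : ℚ) * genRank G := by nlinarith
    exact_mod_cast this

omit hdim in
theorem preimage_data {A : X.Modules} (i : A ⟶ E) [Mono i] (hA : Coh.IsCoh A) {G : X.Modules}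
    (j : G ⟶ cokernel i) [Mono j] (hG : Coh.IsCoh G) :
    ∃ (J : X.Modules) (a : J ⟶ E), Mono a ∧ Coh.IsCoh J ∧ genRank J = genRank A + genRank G ∧
      dg k J = dg k A + dg k G := by
  haveI := CurvLib.isNoetherian k (X := X)
  have hEc := CurvLib.isCoh_of_locFree hE
  have hC := QCohLib.isCoh_cokernel i hA.1 hEc
  have hQ := QCohLib.isCoh_cokernel j hG.1 hC
  obtain ⟨hJ, r1, d1⟩ := epi_data (k := k) hEc hQ (cokernel.π i ≫ cokernel.π j)
  let S₁ : ShortComplex X.Modules := ShortComplex.mk i (cokernel.π i) (cokernel.condition i)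
  have hS₁ : S₁.ShortExact :=
    { exact := ShortComplex.exact_of_g_is_cokernel _ (cokernelIsCokernel i)
      mono_f := inferInstanceAs (Mono i)
      epi_g := inferInstanceAs (Epi (cokernel.π i)) }
  let S₂ : ShortComplex X.Modules := ShortComplex.mk j (cokernel.π j) (cokernel.condition j)
  have hS₂ : S₂.ShortExact :=
    { exact := ShortComplex.exact_of_g_is_cokernel _ (cokernelIsCokernel j)
      mono_f := inferInstanceAs (Mono j)
      epi_g := inferInstanceAs (Epi (cokernel.π j)) }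
  have r2 : genRank E = genRank A + genRank (cokernel i) := genRank_add (S := S₁) hS₁ hA hEc hC
  have d2 : dg k E = dg k A + dg k (cokernel i) := dg_add (k := k) (S := S₁) hS₁ hA hEc hC
  have r3 : genRank (cokernel i) = genRank G + genRank (cokernel j) := genRank_add (S := S₂) hS₂ hG hC hQ
  have d3 : dg k (cokernel i) = dg k G + dg k (cokernel j) := dg_add (k := k) (S := S₂) hS₂ hG hC hQ
  exact ⟨_, kernel.ι (cokernel.π i ≫ cokernel.π j), inferInstance, hJ, by omega, by omega⟩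

/-- Existence of the destabilising subbundle. -/
theorem exists_destab (hr : 0 < r) :
    ∃ (E₁ : X.Modules) (r₁ : ℕ) (i₁ : E₁ ⟶ E), Mono i₁ ∧ 0 < r₁ ∧ FlatMod.IsFinLocFreeOfRank r₁ E₁ ∧
      (∀ (F : X.Modules) (r' : ℕ) (j : F ⟶ E), Mono j → 0 < r' → FlatMod.IsFinLocFreeOfRank r' F →
        Curv2.deg k X F r' * (r₁ : ℤ) ≤ Curv2.deg k X E₁ r₁ * (r' : ℤ)) ∧
      (∀ (G : X.Modules) (r' : ℕ) (j : G ⟶ E), Mono j → 0 < r' → FlatMod.IsFinLocFreeOfRank r' G →
        Curv2.deg k X G r' * (r₁ : ℤ) = Curv2.deg k X E₁ r₁ * (r' : ℤ) → r' ≤ r₁) ∧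
      (∀ (Q : X.Modules) (s : ℕ) (j : Q ⟶ cokernel i₁), Mono j → 0 < s → FlatMod.IsFinLocFreeOfRank s Q →
        Curv2.deg k X Q s * (r₁ : ℤ) < Curv2.deg k X E₁ r₁ * (s : ℤ)) := by
  haveI := CurvLib.isNoetherian k (X := X)
  obtain ⟨E₁, i₁, hi₁, hE₁, hpos, hmax⟩ := exists_maxSub (k := k) hdim hE hr
  have hE₁r := (sub_data (k := k) hdim hE i₁ hE₁).1
  refine ⟨E₁, genRank E₁, i₁, hi₁, hpos, hE₁r, fun F r' j hj hr' hF => ?_, fun F r' j hj hr' hF he => ?_,
    fun Q s j hj hs hQ => ?_⟩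
  · rw [deg_eq_dg hF, deg_eq_dg hE₁r]
    have := (hmax F j hj (CurvLib.isCoh_of_locFree hF) (by rw [genRank_eq hF]; exact hr')).1
    rwa [genRank_eq hF] at this
  · rw [deg_eq_dg hF, deg_eq_dg hE₁r] at he
    have := (hmax F j hj (CurvLib.isCoh_of_locFree hF) (by rw [genRank_eq hF]; exact hr')).2
    rw [genRank_eq hF] at this
    exact this he
  · obtain ⟨J, a, ha, hJ, hrJ, hdJ⟩ := preimage_data (k := k) hE i₁ hE₁ j (CurvLib.isCoh_of_locFree hQ)
    rw [genRank_eq hQ] at hrJ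
    obtain ⟨h1, h2⟩ := hmax J a ha hJ (by omega)
    rw [deg_eq_dg hQ, deg_eq_dg hE₁r]
    rw [hrJ, hdJ] at h1 h2
    push_cast at h1 h2
    refine lt_of_le_of_ne (by linarith) fun he => ?_
    have := h2 (by linarith)
    omega

theorem destab_factors {E₁ E₁' : X.Modules} {r₁ r₁' : ℕ} (i₁ : E₁ ⟶ E) (i₁' : E₁' ⟶ E) [Mono i₁] [Mono i₁']
    (hr₁ : 0 < r₁) (hr₁' : 0 < r₁') (hE₁ : FlatMod.IsFinLocFreeOfRank r₁ E₁)
    (hE₁' : FlatMod.IsFinLocFreeOfRank r₁' E₁')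
    (hmax : ∀ (F : X.Modules) (r' : ℕ) (j : F ⟶ E), Mono j → 0 < r' → FlatMod.IsFinLocFreeOfRank r' F →
      Curv2.deg k X F r' * (r₁ : ℤ) ≤ Curv2.deg k X E₁ r₁ * (r' : ℤ))
    (hquot : ∀ (Q : X.Modules) (s : ℕ) (j : Q ⟶ cokernel i₁), Mono j → 0 < s → FlatMod.IsFinLocFreeOfRank s Q →
      Curv2.deg k X Q s * (r₁ : ℤ) < Curv2.deg k X E₁ r₁ * (s : ℤ))
    (hmax' : ∀ (F : X.Modules) (r' : ℕ) (j : F ⟶ E), Mono j → 0 < r' → FlatMod.IsFinLocFreeOfRank r' F →
      Curv2.deg k X F r' * (r₁' : ℤ) ≤ Curv2.deg k X E₁' r₁' * (r' : ℤ)) :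
    i₁' ≫ cokernel.π i₁ = 0 := by
  haveI := CurvLib.isNoetherian k (X := X)
  have hE₁c := CurvLib.isCoh_of_locFree hE₁
  have hC := QCohLib.isCoh_cokernel i₁ hE₁c.1 (CurvLib.isCoh_of_locFree hE)
  have hCr : FlatMod.IsFinLocFreeOfRank (genRank (cokernel i₁)) (cokernel i₁) := by
    refine rank_genRank ((Groth.Agent.S1688.result X (fun x => regular_stalk (k := k) x) hdim.le _ hC).mp
      (torsionFree_of_no_rank_zero hC fun G j hj hG h0 => ?_))
    obtain ⟨hnn, heq⟩ := dg_nonneg_of_rank_zero (k := k) hdim hG h0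
    obtain ⟨J, a, ha, hJ, hrJ, hdJ⟩ := preimage_data (k := k) hE i₁ hE₁c j hG
    rw [genRank_eq hE₁, h0, add_zero] at hrJ
    have hJr := (sub_data (k := k) hdim hE a hJ).1
    rw [hrJ] at hJr
    have := hmax J r₁ a ha hr₁ hJr
    rw [deg_eq_dg hJr, deg_eq_dg hE₁, hdJ] at this
    refine heq (le_antisymm ?_ hnn)
    have h2 : dg k G * (r₁ : ℤ) ≤ 0 := by linarith
    exact nonpos_of_mul_nonpos_left h2 (by exact_mod_cast hr₁)
  by_contra hφ
  let φ := i₁' ≫ cokernel.π i₁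
  have hss : ModFun.IsSlopeSemistable k X E₁' r₁' := fun F r' i hi hr' hF => by
    exact hmax' F r' (i ≫ i₁') inferInstance hr' hF
  obtain ⟨-, hI, -, -⟩ := ker_im_data (k := k) (CurvLib.isCoh_of_locFree hE₁') hC φ
  obtain ⟨hIr, -, -, -, hzI⟩ := sub_data (k := k) hdim hCr (Abelian.image.ι φ) hI
  have hI0 : 0 < genRank (Abelian.image φ) := Nat.pos_of_ne_zero fun h0 => hφ (by
    change φ = 0
    rw [← Abelian.image.fac φ, (hzI h0).eq_of_src (Abelian.image.ι φ) 0, comp_zero])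
  have h1 := image_ge hdim hE₁' hss hC φ
  have h2 := hquot _ _ (Abelian.image.ι φ) inferInstance hI0 hIr
  have h3 := hmax' E₁ r₁ i₁ inferInstance hr₁ hE₁
  rw [deg_eq_dg hIr, deg_eq_dg hE₁] at h2
  rw [deg_eq_dg hE₁, deg_eq_dg hE₁'] at h3
  have hr₁q : (0 : ℤ) < r₁' := by exact_mod_cast hr₁'
  nlinarith [mul_le_mul_of_nonneg_right h1 (Int.natCast_nonneg r₁), mul_lt_mul_of_pos_right h2 hr₁q,
    mul_le_mul_of_nonneg_right h3 (Int.natCast_nonneg (genRank (Abelian.image φ)))]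

end CurveVBLib

end
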